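import Groth.Agent.EGA2.K43.VABackward
import Groth.Agent.EGA2.K42.VAMisc
import Groth.Agent.EGA2.K42.VATens
import Groth.Agent.EGA2.K42.VABC
import Groth.Agent.EGA2.K42.VALoc
import Groth.Agent.EGA2.K42.VACompC
import Groth.Agent.Ega1.TensorRestrict
import Groth.Agent.FormalA.PullbackQC
import Groth.Agent.S8259
import Groth.Agent.Grpsch.PicGrp

/-!
# Calculus of relatively very ample modules

Isomorphism invariance, separatedness, tensor products, powers, locality on the base, composition,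
for `RelProj.IsRelVeryAmple`, deduced from the section-level condition `K43.VADef.VA`.
-/

set_option autoImplicit false
universe u
open CategoryTheory CategoryTheory.Limits AlgebraicGeometry TopologicalSpace Opposite

namespace K426.RVA

open Groth.Agent.Fdesc.LocGen Groth.Agent.Ega2.Nv K43.VADef K43.VAForward K43.VABackward
open Groth.Agent.Grpsch.PicGrp RelProj

variable {X Y Z : Scheme.{u}} {q : X ⟶ Y}

theorem isSeparated {L : X.Modules} (h : IsRelVeryAmple q L) : IsSeparated q := by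
  obtain ⟨E, hE, 𝒮, j, hj, P, p, chart, hP, O1, lam, hO1, i, hi, rfl, -⟩ := h
  have h1 : IsSeparated p := Groth.Agent.S8259.result 𝒮 p chart hP
  exact MorphismProperty.comp_mem _ _ _ inferInstance h1

theorem of_iso {L L' : X.Modules} (_ : PicF.IsInvertible L) (hL' : PicF.IsInvertible L') (e : L ≅ L')
    (h : IsRelVeryAmple q L) : IsRelVeryAmple q L' := by
  obtain ⟨E, hE, φ, hφ⟩ := exists_va h
  exact isRelVeryAmple_of_va q hL' hE _ (hφ.comp_iso e.hom)

theorem tensor_gn {L L' : X.Modules} (hL : PicF.IsInvertible L) (hL' : PicF.IsInvertible L')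
    (h : IsRelVeryAmple q L) {E' : Y.Modules} (hE' : Coh.IsQCoh E')
    {φ' : E' ⟶ (Scheme.Modules.pushforward q).obj L'} (hφ' : K42.VATens.Gn q φ') :
    IsRelVeryAmple q (CohB1.tensorMod L L') := by
  obtain ⟨E, hE, ψ, hψ⟩ := exists_va h
  have hq := Groth.Agent.Ega1.TensorRestrict.isQCoh_tensorMod _ _ hE hE'
  exact isRelVeryAmple_of_va q (isInvertible_tensorMod hL hL') hq _ (K43.VADef.VA.tens hL hL' hq hψ hφ')

theorem tensor {L L' : X.Modules} (hL : PicF.IsInvertible L) (hL' : PicF.IsInvertible L')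
    (h : IsRelVeryAmple q L) (h' : IsRelVeryAmple q L') : IsRelVeryAmple q (CohB1.tensorMod L L') := by
  obtain ⟨E', hE', φ', hφ'⟩ := exists_va h'
  exact tensor_gn hL hL' h hE' hφ'.gn

theorem tensor_pull {L : X.Modules} (hL : PicF.IsInvertible L) {K : Y.Modules} (hK : PicF.IsInvertible K)
    (h : IsRelVeryAmple q L) :
    IsRelVeryAmple q (CohB1.tensorMod L ((Scheme.Modules.pullback q).obj K)) :=
  tensor_gn hL (isInvertible_pullback _ hK) h (Groth.Agent.Ega2.QCohLocal.isQCoh_of_isInvertible hK)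
    (K42.VATens.gn_of_epi (isInvertible_pullback _ hK) (𝟙 ((Scheme.Modules.pullback q).obj K)))

theorem tensor_pull_iff {L : X.Modules} (hL : PicF.IsInvertible L) {K : Y.Modules} (hK : PicF.IsInvertible K) :
    IsRelVeryAmple q L ↔ IsRelVeryAmple q (CohB1.tensorMod L ((Scheme.Modules.pullback q).obj K)) := by
  refine ⟨tensor_pull hL hK, fun h => ?_⟩
  obtain ⟨K', hK', hKK'⟩ := exists_mk (mk K hK)⁻¹
  have hT : PicF.IsInvertible (CohB1.tensorMod L ((Scheme.Modules.pullback q).obj K)) :=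
    isInvertible_tensorMod hL (isInvertible_pullback _ hK)
  have h2 := tensor_pull hT hK' h
  have hT2 := isInvertible_tensorMod hT (isInvertible_pullback q hK')
  have e : mk _ hT2 = mk L hL := by
    rw [← mk_mul_mk hT (isInvertible_pullback q hK'), ← mk_mul_mk hL (isInvertible_pullback q hK),
      ← pull_mk q hK, ← pull_mk q hK', ← hKK', map_inv, mul_inv_cancel_right]
  obtain ⟨i⟩ := (mk_eq_iff hT2 hL).1 e
  exact of_iso hT2 hL i h2

theorem tensorPow {L : X.Modules} (hL : PicF.IsInvertible L) (h : IsRelVeryAmple q L) :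
    ∀ (n : ℕ) (_ : 0 < n), IsRelVeryAmple q (CohB1.tensorPow L n)
  | 0, hn => absurd hn (lt_irrefl _)
  | 1, _ => by
    have h1 := isInvertible_tensorPow hL 1
    have e : mk L hL = mk _ h1 := by
      rw [mk_tensorPow hL 1, pow_one]
    obtain ⟨i⟩ := (mk_eq_iff hL h1).1 e
    exact of_iso hL h1 i h
  | n + 2, _ => tensor (isInvertible_tensorPow hL (n + 1)) hL (tensorPow hL h (n + 1) (Nat.succ_pos n)) h

theorem baseChange {X' Y' : Scheme.{u}} {f : X ⟶ Y} {g : Y' ⟶ Y} {g' : X' ⟶ X} {f' : X' ⟶ Y'}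
    (hsq : IsPullback g' f' f g) {L : X.Modules} (hL : PicF.IsInvertible L) (hva : IsRelVeryAmple f L) :
    IsRelVeryAmple f' ((Scheme.Modules.pullback g').obj L) := by
  obtain ⟨E, hE, φ, hφ⟩ := exists_va hva
  have hE' := Groth.Agent.FormalA.PullbackQC.isQCoh_pullback g E hE
  exact isRelVeryAmple_of_va f' (isInvertible_pullback _ hL) hE' _ (hφ.baseChange hsq hL hE')

theorem isInvertible_of_iso' {L L' : X.Modules} (e : L ≅ L') (h : PicF.IsInvertible L) : PicF.IsInvertible L' :=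
  fun x => by
    obtain ⟨U, hx, ⟨i⟩⟩ := h x
    exact ⟨U, hx, ⟨(Scheme.Modules.restrictFunctor U.ι).mapIso e.symm ≪≫ i⟩⟩

theorem isInvertible_restrict' {L : X.Modules} (hL : PicF.IsInvertible L) (U : X.Opens) :
    PicF.IsInvertible (L.restrict U.ι) :=
  isInvertible_of_iso' ((Scheme.Modules.restrictFunctorIsoPullback U.ι).app L).symm (isInvertible_pullback _ hL)

theorem restrict {L : X.Modules} (hL : PicF.IsInvertible L) (U : Y.Opens) (h : IsRelVeryAmple q L) :
    IsRelVeryAmple (q ∣_ U) (L.restrict (q ⁻¹ᵁ U).ι) := by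
  have h1 := baseChange (isPullback_morphismRestrict q U).flip hL h
  exact of_iso (isInvertible_pullback _ hL) (isInvertible_restrict' hL _)
    ((Scheme.Modules.restrictFunctorIsoPullback (q ⁻¹ᵁ U).ι).app L).symm h1

theorem of_cover [QuasiCompact q] {L : X.Modules} (hL : PicF.IsInvertible L) {ι : Type u} (U : ι → Y.Opens)
    (hU : ⨆ i, U i = ⊤) (h : ∀ i, IsRelVeryAmple (q ∣_ (U i)) (L.restrict (q ⁻¹ᵁ (U i)).ι)) :
    IsRelVeryAmple q L := by
  have hs : IsSeparated q :=
    (IsZariskiLocalAtTarget.iff_of_iSup_eq_top (P := @IsSeparated) U hU).mpr fun j => isSeparated (h j)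
  have hq : Coh.IsQCoh ((Scheme.Modules.pushforward q).obj L) :=
    Groth.Agent.Ega1.QcqsPush.isQCoh_pushforward q L (Groth.Agent.Ega2.QCohLocal.isQCoh_of_isInvertible hL)
  refine isRelVeryAmple_of_va q hL hq _ (K42.VALoc.va_id_of_restrict hq fun y => ?_)
  have hy : y ∈ ⨆ j, U j := by rw [hU]; trivial
  obtain ⟨j, hj⟩ := Opens.mem_iSup.mp hy
  obtain ⟨E, -, φ, hφ⟩ := exists_va (h j)
  exact ⟨U j, hj, _, φ, hφ⟩

theorem comp [CompactSpace Z] (f : X ⟶ Y) [QuasiCompact f] [LocallyOfFiniteType f] (g : Y ⟶ Z) [QuasiCompact g]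
    {L : X.Modules} (hL : PicF.IsInvertible L) (hLva : IsRelVeryAmple f L)
    {K : Y.Modules} (hK : PicF.IsInvertible K) (hKva : IsRelVeryAmple g K) :
    ∃ n₀ : ℕ, 0 < n₀ ∧ ∀ n : ℕ, n₀ ≤ n → IsRelVeryAmple (f ≫ g)
        (CohB1.tensorMod L ((Scheme.Modules.pullback f).obj (CohB1.tensorPow K n))) := by
  have := isSeparated hLva
  have := isSeparated hKva
  obtain ⟨EL, hEL, φ, hφ⟩ := exists_va hLva
  obtain ⟨EK, hEK, ψ, hψ⟩ := exists_va hKva
  obtain ⟨n₀, hn₀, h⟩ := K42.VAComp.va_comp hL hφ hK hψ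
  refine ⟨n₀, hn₀, fun n hn => ?_⟩
  have hinv : PicF.IsInvertible (CohB1.tensorMod L ((Scheme.Modules.pullback f).obj (CohB1.tensorPow K n))) :=
    isInvertible_tensorMod hL (isInvertible_pullback f (isInvertible_tensorPow hK n))
  exact isRelVeryAmple_of_va (f ≫ g) hinv (Groth.Agent.Ega1.QcqsPush.isQCoh_pushforward (f ≫ g) _
    (Groth.Agent.Ega2.QCohLocal.isQCoh_of_isInvertible hinv)) _ (h n hn)

/-- A finite cover by affine opens. -/
theorem exists_cov (Y : Scheme.{u}) [CompactSpace Y] : ∃ (ι : Type u) (_ : Finite ι) (W : ι → Y.Opens),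
    (∀ i, IsAffineOpen (W i)) ∧ ⨆ i, W i = ⊤ := by
  choose W hW hxW _ using fun x : Y => exists_isAffineOpen_mem_and_subset (X := Y) (x := x)
    (U := ⊤) trivial
  obtain ⟨F, hF⟩ := isCompact_univ.elim_finite_subcover (fun x : Y => (W x : Set Y))
    (fun x => (W x).2) (fun x _ => Set.mem_iUnion.mpr ⟨x, hxW x⟩)
  refine ⟨F, inferInstance, fun i => W i, fun i => hW _, top_le_iff.mp fun x _ => ?_⟩
  obtain ⟨y, hy⟩ := Set.mem_iUnion.mp (hF (Set.mem_univ x))
  obtain ⟨hy, hx⟩ := Set.mem_iUnion.mp hy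
  exact Opens.mem_iSup.mpr ⟨⟨y, hy⟩, hx⟩

end K426.RVA
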